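import Groth.Agent.S1551
import Groth.Agent.Ega2.FiniteSet
import Groth.Agent.Etcore.CurveTop
import Groth.Agent.Sga4B.DimBC
import Groth.Agent.Lefpen.H716.CIGeom
import Groth.Agent.Sga4h.CurveHat410

/-!
# Dense affine opens of a proper curve containing a given finite closed subscheme

`B_exists_affine`: `Xbar` proper over an algebraically closed field, `Y ⊆ Xbar` a closed subscheme finite over
the field, whose complement is dense and smooth of relative dimension one. There is an affine open of `Xbar`
containing `Y` whose complement is a finite set of closed points.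
-/

set_option autoImplicit false

universe u

open CategoryTheory CategoryTheory.Limits AlgebraicGeometry TopologicalSpace

namespace Groth.Agent.Etdl.H146.AffineOpen

/-- In a Noetherian separated scheme of dimension at most one, each finite set of points is contained in an
affine open which meets every irreducible component. -/
theorem exists_affine_of_finite (X : Scheme.{u}) [IsNoetherian X] [X.IsSeparated]
    (hdim : topologicalKrullDim X ≤ 1) (Z : Set X) (hZ : Z.Finite) :
    ∃ U : X.Opens, IsAffineOpen U ∧ Z ⊆ (U : Set X) ∧ Dense (U : Set X) ∧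
      ((U : Set X)ᶜ).Finite ∧ ∀ x ∉ U, IsClosed ({x} : Set X) := by
  classical
  -- add a point of each irreducible component
  have hfin : (irreducibleComponents X).Finite := NoetherianSpace.finite_irreducibleComponents
  have hgen : ∀ C : irreducibleComponents X, ∃ η : X, IsGenericPoint η (C : Set X) := fun C =>
    QuasiSober.sober C.2.1 (isClosed_of_mem_irreducibleComponents _ C.2)
  choose η hη using hgen
  have hfin' : Finite (irreducibleComponents X) := hfin
  let Z' : Set X := Z ∪ Set.range η
  have hZ' : Z'.Finite := hZ.union (Set.finite_range η)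
  -- it suffices to find an affine open containing `Z'`
  suffices h : ∃ U : X.Opens, IsAffineOpen U ∧ Z' ⊆ (U : Set X) by
    obtain ⟨U, hU, hZU⟩ := h
    have hmeet : ∀ C ∈ irreducibleComponents X, ((U : Set X) ∩ C).Nonempty := fun C hC =>
      ⟨η ⟨C, hC⟩, hZU (Or.inr ⟨_, rfl⟩), (hη ⟨C, hC⟩).mem⟩
    refine ⟨U, hU, Set.subset_union_left.trans hZU, ?_, Etcore.CurveTop.compl_finite X hdim U hmeet⟩
    rw [dense_iff_closure_eq, Set.eq_univ_iff_forall]
    intro x
    have hx : x ∈ irreducibleComponent x := mem_irreducibleComponent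
    have h1 := hη ⟨irreducibleComponent x, irreducibleComponent_mem_irreducibleComponents x⟩
    have h2 : closure {η ⟨irreducibleComponent x, irreducibleComponent_mem_irreducibleComponents x⟩} ⊆
        closure (U : Set X) :=
      closure_mono (Set.singleton_subset_iff.2 (hZU (Or.inr ⟨_, rfl⟩)))
    exact h2 (h1.symm ▸ hx)
  rcases eq_or_lt_of_le hdim with h1 | h0
  · obtain ⟨L, hL⟩ := Groth.Agent.S1551.result X h1
    obtain ⟨n, s, h2, -, h3⟩ :=
      Groth.Agent.Ega2.FiniteSet.exists_affine_genLocus_of_finite hL Z' hZ' ⊤ (fun _ _ => trivial)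
    exact ⟨_, h3, h2⟩
  · -- dimension zero: `X` is finite and discrete
    have h0' : topologicalKrullDim X < ((1 : ℕ) : WithBot ℕ∞) := by exact_mod_cast h0
    have hfX : Finite X := Etcore.CurveTop.finite_of_dim_lt_one h0'
    have hcl : ∀ x : X, IsClosed ({x} : Set X) := Etcore.CurveTop.isClosed_singleton_of_dim_lt_one h0'
    have : T1Space X := ⟨hcl⟩
    have hdisc : DiscreteTopology X := inferInstance
    have haff : IsAffine X := inferInstance
    exact ⟨⊤, isAffineOpen_top X, fun _ _ => trivial⟩

theorem B_exists_affine (k : Type u) [Field k] [IsAlgClosed k]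
    {Xbar Y X : Scheme.{u}} (pbar : Xbar ⟶ Spec (CommRingCat.of k)) [IsProper pbar]
    (i : Y ⟶ Xbar) [IsClosedImmersion i] [IsFinite (i ≫ pbar)]
    (j : X ⟶ Xbar) [IsOpenImmersion j] (hij : Set.range j.base = (Set.range i.base)ᶜ)
    (hdense : Dense (Set.range j.base)) [SmoothOfRelativeDimension 1 (j ≫ pbar)] :
    ∃ U : Xbar.Opens, IsAffineOpen U ∧ Set.range i.base ⊆ (U : Set Xbar) ∧ Dense (U : Set Xbar) ∧
      ((U : Set Xbar)ᶜ).Finite ∧ ∀ x ∉ U, IsClosed ({x} : Set Xbar) := by
  have hNl : IsLocallyNoetherian Xbar := LocallyOfFiniteType.isLocallyNoetherian pbar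
  have hcomp : CompactSpace Xbar := QuasiCompact.compactSpace_of_compactSpace pbar
  have hN : IsNoetherian Xbar := { }
  have hsep : Xbar.IsSeparated := by
    rw [Scheme.isSeparated_iff, ← terminal.comp_from pbar]
    infer_instance
  have hNX : IsLocallyNoetherian X := isLocallyNoetherian_of_isOpenImmersion j
  have : NoetherianSpace Xbar := inferInstance
  have : CompactSpace X := by
    rw [← isCompact_univ_iff, j.isOpenEmbedding.isEmbedding.isCompact_iff]
    exact NoetherianSpace.isCompact _
  have hdim : topologicalKrullDim Xbar ≤ 1 := by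
    have h1 := Groth.Agent.Sga4B.DimBC.topologicalKrullDim_closure_le pbar j
    have h2 := Groth.Agent.Lefpen.H716.CIGeom.topologicalKrullDim_le_of_smooth 1 (j ≫ pbar)
    have h3 : closure (Set.range j) = Set.univ := hdense.closure_eq
    rw [h3] at h1
    have h4 : topologicalKrullDim (Set.univ : Set Xbar) = topologicalKrullDim Xbar :=
      IsHomeomorph.topologicalKrullDim_eq _ (Homeomorph.Set.univ Xbar).isHomeomorph
    rw [h4] at h1
    exact h1.trans h2
  have hY : Finite Y := by
    have h1 := (i ≫ pbar).finite_preimage_singleton (Classical.arbitrary (Spec (CommRingCat.of k)))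
    have h2 : (i ≫ pbar) ⁻¹' {Classical.arbitrary (Spec (CommRingCat.of k))} = Set.univ :=
      Set.eq_univ_of_forall fun _ => Subsingleton.elim _ _
    rw [h2] at h1
    exact Set.finite_univ_iff.1 h1
  exact exists_affine_of_finite Xbar hdim _ (Set.finite_range _)

end Groth.Agent.Etdl.H146.AffineOpen
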